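import Cfsg.Agent.H91.JRMax.Setup
import Cfsg.Agent.Cores.GlaubermanZStar
import Cfsg.Agent.H85.ElemEight.Strong
import Cfsg.Agent.S0223
import Cfsg.Agent.S1141
import Cfsg.Prelude.Def_Exceptional
import Cfsg.Prelude.Def_TwoFusion

/-!
# The centraliser of an involution of type JR is maximal, given Bender's theorem for simple groups

If a subgroup M properly contains the centraliser, either t is isolated in M and then the Z*-theorem
gives an abelian normal subgroup of odd order inverted by t, which is impossible in PSL₂; or M has one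
class of involutions and is strongly embedded, contradicting the list of such simple groups.
-/

set_option autoImplicit false
set_option linter.unusedSectionVars false

namespace Cfsg.Agent.H91.JRMax

open Subgroup

variable {G : Type*} [Group G] [Finite G] {F : Type*} [Field F] [Fintype F]

local notation "P2" => Matrix.ProjectiveSpecialLinearGroup (Fin 2) F

variable {P : Sylow 2 G} {t : G} {E : Subgroup G}
  {f : Matrix.ProjectiveSpecialLinearGroup (Fin 2) F →* G}
  {u₀ v₀ τ₀ : Matrix.ProjectiveSpecialLinearGroup (Fin 2) F}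

/-- The normaliser of the Sylow subgroup is transitive on its involutions. -/
theorem Hyp.normalizer_transitive (h : Hyp P t E f u₀ v₀ τ₀) (hperf : _root_.commutator G = ⊤) {x : G}
    (hx : x ∈ (P : Subgroup G)) (hx1 : x ≠ 1) :
    ∃ n ∈ normalizer ((P : Subgroup G) : Set G), n * t * n⁻¹ = x := by
  obtain ⟨k, hk, hkt⟩ : ∃ k ∈ normalizer ((P : Subgroup G) : Set G), k * t * k⁻¹ ≠ t := by
    by_contra hcon
    push Not at hcon
    exact h.t_ne_one (S3206.eq_one_of_fixed hperf P h.comm h.mem hcon)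
  exact h.transitive le_rfl h.tau_mem le_normalizer hk hkt hx hx1

theorem Hyp.abelian_case (h : Hyp P t E f u₀ v₀ τ₀) (hperf : _root_.commutator G = ⊤) {M : Subgroup G}
    (hCM : centralizer ({t} : Set G) ≤ M)
    (hiso : ∀ m ∈ M, m * t * m⁻¹ ∈ (P : Subgroup G) → m * t * m⁻¹ = t) :
    M = centralizer ({t} : Set G) := by
  classical
  have : Fact (Nat.Prime 2) := ⟨Nat.prime_two⟩
  set C := centralizer ({t} : Set G) with hC
  have hPM : (P : Subgroup G) ≤ M := h.sylow_le.trans hCM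
  have htM : t ∈ M := hPM h.mem
  have hz := Cores.glaubermanZStar (P.subtype hPM) (u := ⟨t, htM⟩) (by rw [Subgroup.orderOf_mk, h.ord])
    h.mem (fun m hm => Subtype.ext (hiso m m.2 hm))
  set A : Subgroup G := (oddCore ↥M).map M.subtype with hA
  have hAodd : Odd (Nat.card A) := by
    rw [hA, card_map_of_injective (subtype_injective _)]
    exact Cores.odd_card_oddCore
  have hAM : A ≤ M := map_subtype_le _
  have : (oddCore ↥M).Characteristic := Cores.pPrimeCore_characteristic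
  have hAn : ∀ m ∈ M, ∀ a ∈ A, m * a * m⁻¹ ∈ A := by
    rintro m hm _ ⟨a, ha, rfl⟩
    exact ⟨⟨m, hm⟩ * a * ⟨m, hm⟩⁻¹, Normal.conj_mem inferInstance a ha _, rfl⟩
  have hzA : ∀ m ∈ M, t * m * t⁻¹ * m⁻¹ ∈ A := fun m hm => ⟨_, hz ⟨m, hm⟩, rfl⟩
  have hAC : A ⊓ C = ⊥ := h.odd_normal_eq_bot inf_le_right (hAodd.of_dvd_nat (card_dvd_of_le inf_le_left))
    fun c hc a ha => ⟨hAn c (hCM hc) a ha.1, C.mul_mem (C.mul_mem hc ha.2) (C.inv_mem hc)⟩
  let φ : ↥A →* ↥A :=
    ((MulAut.conj t).toMonoidHom.comp A.subtype).codRestrict A fun a => hAn t htM a a.2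
  have hφ : ∀ a : A, (φ a : G) = t * (a : G) * t⁻¹ := fun a => rfl
  have hfp : MonoidHom.FixedPointFree φ := fun a ha => by
    have h1 : t * (a : G) * t⁻¹ = a := (hφ a).symm.trans (congrArg Subtype.val ha)
    have h2 : (a : G) ∈ A ⊓ C := ⟨a.2, mem_centralizer_singleton_iff.2 (mul_inv_eq_iff_eq_mul.1 h1).symm⟩
    rw [hAC, mem_bot] at h2
    exact Subtype.ext h2
  have hinv2 : Function.Involutive φ := fun a => Subtype.ext (by
    rw [hφ, hφ, show t * (t * (a : G) * t⁻¹) * t⁻¹ = (t * t) * a * (t * t)⁻¹ by group, h.tt]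
    simp)
  have hab : ∀ a ∈ A, ∀ b ∈ A, a * b = b * a := fun a ha b hb =>
    congrArg Subtype.val (hfp.commute_all_of_involutive hinv2 ⟨a, ha⟩ ⟨b, hb⟩).eq
  have hinvA : ∀ a ∈ A, t * a * t⁻¹ = a⁻¹ := fun a ha => by
    have := congrArg Subtype.val (congrFun (hfp.coe_eq_inv_of_involutive hinv2) ⟨a, ha⟩)
    exact this
  refine le_antisymm ?_ hCM
  -- M is A times the centraliser, so it is enough that A is trivial
  suffices hAbot : A = ⊥ by
    intro m hm
    have := hzA m hm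
    rw [hAbot, mem_bot, mul_inv_eq_one] at this
    exact mem_centralizer_singleton_iff.2 (mul_inv_eq_iff_eq_mul.1 this).symm
  by_contra hne
  obtain ⟨⟨x, hxA⟩, hx0⟩ := Subgroup.ne_bot_iff_exists_ne_one.1 hne
  have hx1 : x ≠ 1 := fun e => hx0 (Subtype.ext e)
  set u := f u₀ with hu
  set v := f v₀ with hv
  obtain ⟨hu1, hv1, huv, huv1⟩ := h.fu_ne
  have huC : u ∈ C := h.range_mem u₀
  have hvC : v ∈ C := h.range_mem v₀
  -- one of the three involutions of the four-group fixes an element of A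
  obtain ⟨w, hwP, hw1, hwE, y, hyA, hy1, hwy⟩ : ∃ w ∈ (P : Subgroup G), w ≠ 1 ∧ w ∈ E ∧
      ∃ y ∈ A, y ≠ 1 ∧ w * y * w⁻¹ = y := by
    have hfix : ∀ w ∈ (P : Subgroup G), x * (w * x * w⁻¹) ≠ 1 →
        w * (x * (w * x * w⁻¹)) * w⁻¹ = x * (w * x * w⁻¹) := fun w hw _ => by
      calc w * (x * (w * x * w⁻¹)) * w⁻¹ = (w * x * w⁻¹) * ((w * w) * x * (w * w)⁻¹) := by group
        _ = (w * x * w⁻¹) * x := by rw [h.sq hw, one_mul, inv_one, mul_one]
        _ = _ := hab _ (hAn w (hPM hw) x hxA) _ hxA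
    by_cases hxu : x * (u * x * u⁻¹) = 1
    · by_cases hxv : x * (v * x * v⁻¹) = 1
      · refine ⟨u * v, mul_mem h.u_mem h.v_mem, huv1, mul_mem (h.range_le _) (h.range_le _), x, hxA, hx1, ?_⟩
        calc u * v * x * (u * v)⁻¹ = u * (v * x * v⁻¹) * u⁻¹ := by group
          _ = (u * x * u⁻¹)⁻¹ := by rw [← inv_eq_of_mul_eq_one_right hxv]; group
          _ = x := by rw [← inv_eq_of_mul_eq_one_right hxu, inv_inv]
      · exact ⟨v, h.v_mem, hv1, h.range_le _, _, mul_mem hxA (hAn v (hCM hvC) x hxA), hxv,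
          hfix v h.v_mem hxv⟩
    · exact ⟨u, h.u_mem, hu1, h.range_le _, _, mul_mem hxA (hAn u (hCM huC) x hxA), hxu,
        hfix u h.u_mem hxu⟩
  obtain ⟨n, hn, hnw⟩ := h.normalizer_transitive hperf hwP hw1
  set g := n⁻¹ with hg
  have hgw : g * w * g⁻¹ = t := by rw [← hnw, hg]; group
  set t' := g * t * g⁻¹ with ht'
  have ht'P : t' ∈ (P : Subgroup G) := (mem_normalizer_iff.1 (inv_mem hn) t).1 h.mem
  obtain ⟨a, ha, e, he, hae⟩ := h.dec t' (h.sylow_le ht'P)
  have haP : a ∈ (P : Subgroup G) := by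
    rcases ha with rfl | rfl
    exacts [one_mem _, h.mem]
  have heP : e ∈ (P : Subgroup G) := by
    have := mul_mem (inv_mem haP) ht'P
    rwa [← hae, inv_mul_cancel_left] at this
  have he1 : e ≠ 1 := by
    intro e1
    rw [e1, mul_one] at hae
    rcases ha with rfl | rfl
    · exact h.t_ne_one (conj_eq_one_iff.1 (ht'.symm.trans hae.symm))
    · refine h.t_not_mem (?_ : a ∈ E)
      have : a = w := by
        have h1 : g * a * g⁻¹ = g * w * g⁻¹ := by rw [hgw]; exact ht'.symm.trans hae.symm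
        exact mul_left_cancel (mul_right_cancel h1)
      rw [this]; exact hwE
  obtain ⟨ε, hε⟩ := h.involution_mem_range he (h.sq heP)
  have hε1 : ε ≠ 1 := fun e1 => he1 (by rw [← hε, e1, map_one])
  have hεε : ε * ε = 1 := h.inj (by rw [map_mul, hε, h.sq heP, map_one])
  -- the transported fixed points
  let X : Subgroup G := (A ⊓ centralizer ({w} : Set G)).map (MulAut.conj g).toMonoidHom
  have hXC : X ≤ C := by
    rintro _ ⟨z, ⟨-, hz⟩, rfl⟩
    refine mem_centralizer_singleton_iff.2 ?_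
    show g * z * g⁻¹ * t = t * (g * z * g⁻¹)
    rw [← hgw, show g * z * g⁻¹ * (g * w * g⁻¹) = g * (z * w) * g⁻¹ by group,
      mem_centralizer_singleton_iff.1 hz]
    group
  have hXodd : Odd (Nat.card X) := by
    rw [card_map_of_injective (MulAut.conj g).injective]
    exact hAodd.of_dvd_nat (card_dvd_of_le inf_le_left)
  have hXab : ∀ p ∈ X, ∀ q ∈ X, p * q = q * p := by
    rintro _ ⟨p, hp, rfl⟩ _ ⟨q, hq, rfl⟩
    rw [← map_mul, ← map_mul, hab p hp.1 q hq.1]
  have hXinv : ∀ p ∈ X, t' * p * t'⁻¹ = p⁻¹ := by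
    rintro _ ⟨p, hp, rfl⟩
    show g * t * g⁻¹ * (g * p * g⁻¹) * (g * t * g⁻¹)⁻¹ = (g * p * g⁻¹)⁻¹
    rw [show g * t * g⁻¹ * (g * p * g⁻¹) * (g * t * g⁻¹)⁻¹ = g * (t * p * t⁻¹) * g⁻¹ by group,
      hinvA p hp.1]
    group
  have hXe : ∀ p ∈ X, e * p * e⁻¹ = p⁻¹ := by
    intro p hp
    have hpa : a * p⁻¹ * a⁻¹ = p⁻¹ := by
      rcases ha with rfl | rfl
      · simp
      · rw [← (mem_centralizer_singleton_iff.1 (hXC (inv_mem hp))), mul_inv_cancel_right]
    have hpa' : a⁻¹ * p⁻¹ * a = p⁻¹ := by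
      conv_lhs => rw [← hpa]
      group
    calc e * p * e⁻¹ = a⁻¹ * (a * e * p * (a * e)⁻¹) * a := by group
      _ = a⁻¹ * p⁻¹ * a := by rw [hae, hXinv p hp]
      _ = p⁻¹ := hpa'
  have hXrange : ∀ p ∈ X, p ∈ f.range := by
    intro p hp
    obtain ⟨q, hq⟩ := h.conj_range' (hXC hp) ε
    have h2 : p ^ 2 ∈ f.range := by
      refine ⟨q * ε⁻¹, ?_⟩
      rw [map_mul, map_inv, hq, hε, pow_two]
      calc p * e * p⁻¹ * e⁻¹ = p * (e * p * e⁻¹)⁻¹ := by group
        _ = p * p := by rw [hXe p hp, inv_inv]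
    obtain ⟨k, hk⟩ := hXodd.of_dvd_nat (Subgroup.orderOf_dvd_natCard X hp)
    have : p = (p ^ 2) ^ (k + 1) := by
      rw [← pow_mul, show 2 * (k + 1) = orderOf p + 1 by omega, pow_succ, pow_orderOf_eq_one, one_mul]
    rw [this]
    exact pow_mem h2 _
  have hbot : X.comap f = ⊥ := by
    refine eq_bot_of_inverted h.odd hε1 hεε _ (hXodd.of_dvd_nat ?_) (fun p hp q hq => h.inj ?_)
      (fun p hp => h.inj ?_) (fun c hc p hp => ?_)
    · rw [← card_map_of_injective h.inj]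
      exact card_dvd_of_le (map_comap_le _ _)
    · rw [map_mul, map_mul]; exact hXab _ hp _ hq
    · rw [map_mul, map_mul, map_inv, map_inv, hε]; exact hXe _ hp
    · obtain ⟨z, ⟨hzA, hzw⟩, hzp⟩ : f p ∈ X := hp
      show f (c * p * c⁻¹) ∈ X
      rw [map_mul, map_mul, map_inv]
      have hct : t * f c = f c * t := h.t_comm c
      have hce : e * f c = f c * e := by rw [← hε, ← map_mul, ← map_mul, hc]
      have hct' : t' * f c = f c * t' := by
        rcases ha with rfl | rfl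
        · rw [← hae, one_mul, hce]
        · calc t' * f c = a * e * f c := by rw [hae]
            _ = a * f c * e := by rw [mul_assoc, hce, ← mul_assoc]
            _ = f c * a * e := by rw [hct]
            _ = f c * t' := by rw [← hae, mul_assoc]
      -- pull the element back
      set d := g⁻¹ * f c * g with hd
      have hdC : d ∈ C := mem_centralizer_singleton_iff.2 (by
        calc d * t = g⁻¹ * (f c * t') * g := by rw [hd, ht']; group
          _ = t * d := by rw [← hct', hd, ht']; group)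
      have hdw : d * w = w * d := by
        calc d * w = g⁻¹ * (f c * (g * w * g⁻¹)) * g := by rw [hd]; group
          _ = g⁻¹ * ((g * w * g⁻¹) * f c) * g := by rw [hgw, hct]
          _ = w * d := by rw [hd]; group
      refine ⟨d * z * d⁻¹, ⟨hAn d (hCM hdC) z hzA, Subgroup.mul_mem _ (Subgroup.mul_mem _
        (mem_centralizer_singleton_iff.2 hdw) hzw) (Subgroup.inv_mem _ (mem_centralizer_singleton_iff.2 hdw))⟩, ?_⟩
      rw [← hzp]
      show g * (d * z * d⁻¹) * g⁻¹ = f c * (g * z * g⁻¹) * (f c)⁻¹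
      rw [hd]; group
  have hyX : g * y * g⁻¹ ∈ X :=
    ⟨y, ⟨hyA, mem_centralizer_singleton_iff.2 (mul_inv_eq_iff_eq_mul.1 hwy).symm⟩, rfl⟩
  obtain ⟨p, hp⟩ := hXrange _ hyX
  have hp0 : p ∈ X.comap f := show f p ∈ X from hp ▸ hyX
  rw [hbot, mem_bot] at hp0
  rw [hp0, map_one] at hp
  exact hy1 (conj_eq_one_iff.1 hp.symm)

theorem Hyp.nonabelian_case (h : Hyp P t E f u₀ v₀ τ₀) {M : Subgroup G} (hM : M ≠ ⊤)
    (hCM : centralizer ({t} : Set G) ≤ M) {m : G} (hm : m ∈ M) (hmP : m * t * m⁻¹ ∈ (P : Subgroup G))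
    (hmt : m * t * m⁻¹ ≠ t) : IsStronglyEmbedded M := by
  classical
  have : Fact (Nat.Prime 2) := ⟨Nat.prime_two⟩
  have hPM : (P : Subgroup G) ≤ M := h.sylow_le.trans hCM
  have : IsMulCommutative ↥(P : Subgroup G) := h.comm
  have hcommM : IsMulCommutative ↥(P.subtype hPM : Subgroup M) :=
    ⟨⟨fun a b => Subtype.ext (Subtype.ext (h.comm' a.2 b.2))⟩⟩
  -- the conjugation inside M is realised by the normaliser of P in M
  obtain ⟨k, hk, hkt⟩ : ∃ k ∈ normalizer ((P : Subgroup G) : Set G) ⊓ M, k * t * k⁻¹ ≠ t := by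
    obtain ⟨n, hn, he⟩ := (P.subtype hPM).conj_eq_normalizer_conj_of_mem
      (⟨t, hPM h.mem⟩ : M) (⟨m, hm⟩⁻¹ : M) h.mem (show m⁻¹⁻¹ * t * m⁻¹ ∈ (P : Subgroup G) by rwa [inv_inv])
    refine ⟨((n⁻¹ : M) : G), ⟨?_, (n⁻¹).2⟩, ?_⟩
    · have hn' := inv_mem hn
      show ((n⁻¹ : M) : G) ∈ normalizer ((P : Subgroup G) : Set G)
      rw [mem_normalizer_iff_map_conj_eq]
      refine eq_of_le_of_card_ge ?_
        (le_of_eq (card_map_of_injective (MulAut.conj ((n⁻¹ : M) : G)).injective).symm)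
      rintro _ ⟨z, hz, rfl⟩
      exact (mem_normalizer_iff.1 hn' ⟨z, hPM hz⟩).1 hz
    · have he' := congrArg Subtype.val he
      simp at he'
      simp [← he', hmt]
  set K := normalizer ((P : Subgroup G) : Set G) ⊓ M with hK
  have htr : ∀ x ∈ (P : Subgroup G), x ≠ 1 → ∃ n ∈ M, n * t * n⁻¹ = x := fun x hx hx1 => by
    obtain ⟨n, hn, e⟩ := h.transitive (K := K) inf_le_left ⟨h.tau_mem, hCM (h.range_mem τ₀)⟩
      (le_inf le_normalizer hPM) hk hkt hx hx1
    exact ⟨n, hn.2, e⟩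
  have hconj : ∀ s ∈ M, orderOf s = 2 → ∃ n ∈ M, n * t * n⁻¹ = s := fun s hs hs2 => by
    obtain ⟨r, hr, hrP⟩ := H85.ElemEight.exists_conj_sylow hPM hs hs2
    obtain ⟨n, hn, e⟩ := htr _ hrP (fun e => by
      rw [conj_eq_one_iff] at e; rw [e, orderOf_one] at hs2; omega)
    exact ⟨r⁻¹ * n, mul_mem (inv_mem hr) hn, by
      calc r⁻¹ * n * t * (r⁻¹ * n)⁻¹ = r⁻¹ * (n * t * n⁻¹) * r := by group
        _ = s := by rw [e]; group⟩
  have heven : Even (Nat.card M) := by
    rw [even_iff_two_dvd, ← h.ord]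
    exact Subgroup.orderOf_dvd_natCard M (hPM h.mem)
  refine (S0223.result M hM heven).2 ⟨fun s hs hs2 => ?_, fun s hs s' hs' hs2 hs2' _ => ?_⟩
  · obtain ⟨n, hn, e⟩ := hconj s hs hs2
    intro c hc
    rw [mem_centralizer_singleton_iff] at hc
    have : n⁻¹ * c * n ∈ M := hCM (mem_centralizer_singleton_iff.2 (by
      calc n⁻¹ * c * n * t = n⁻¹ * (c * (n * t * n⁻¹)) * n := by group
        _ = n⁻¹ * ((n * t * n⁻¹) * c) * n := by rw [e, hc]
        _ = t * (n⁻¹ * c * n) := by group))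
    simpa [mul_assoc] using mul_mem (mul_mem hn this) (inv_mem hn)
  · obtain ⟨n, hn, e⟩ := hconj s hs hs2
    obtain ⟨n', hn', e'⟩ := hconj s' hs' hs2'
    refine ⟨n' * n⁻¹, mul_mem hn' (inv_mem hn), ?_⟩
    rw [← e, ← e']; group

/-- The groups of Bender's list do not have such an involution. -/
theorem Hyp.not_bender (h : Hyp P t E f u₀ v₀ τ₀)
    (hB : (∃ (F' : Type) (_ : Field F') (_ : Fintype F'), CharP F' 2 ∧ 4 ≤ Fintype.card F' ∧
        Nonempty (G ≃* Matrix.ProjectiveSpecialLinearGroup (Fin 2) F')) ∨ Cfsg.IsSuzuki G ∨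
      (∃ (F' : Type) (_ : Field F') (_ : Fintype F') (q : ℕ), Fintype.card F' = q ^ 2 ∧ Even q ∧ 4 ≤ q ∧
        Nonempty (G ≃* Cfsg.PSU 3 F' q))) : False := by
  classical
  have : Fact (Nat.Prime 2) := ⟨Nat.prime_two⟩
  obtain ⟨hτt, hτu, hτv, -⟩ := h.tau_conj
  rcases hB with ⟨F', _, _, hchar, -, ⟨φ⟩⟩ | hSz | ⟨F', _, _, q, hq, hqe, hq4, ⟨φ⟩⟩
  · have key := centralizer_comm_char_two (t := φ t) (a := φ (f τ₀)) (b := φ (f u₀))
      (fun e => h.t_ne_one (φ.injective (e.trans (map_one φ).symm)))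
      (by rw [← map_mul, ← map_mul, h.t_comm]) (by rw [← map_mul, ← map_mul, h.t_comm])
    have key' : f τ₀ * f u₀ = f u₀ * f τ₀ := φ.injective (by rw [map_mul, map_mul]; exact key)
    exact h.fu_ne.2.2.1 ((mul_inv_eq_iff_eq_mul.2 key').symm.trans hτu)
  · obtain ⟨-, m, -, hc⟩ := hSz
    have h3 : 3 ∣ Nat.card G := by
      have hord : orderOf (f τ₀) ∣ Nat.card G := orderOf_dvd_natCard _
      -- some power of τ has order three
      have hd : Nat.card P2 ∣ Nat.card G := by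
        rw [← Nat.card_congr (MonoidHom.ofInjective h.inj).toEquiv.symm]
        exact card_subgroup_dvd_card _
      refine (Dvd.dvd.trans ?_ hord)
      have hu0 : f u₀ ≠ f v₀ := h.fu_ne.2.2.1
      have hper : ∀ j : ℕ, f τ₀ ^ (3 * j) * f u₀ * (f τ₀ ^ (3 * j))⁻¹ = f u₀ := by
        obtain ⟨-, h1, h2, h3⟩ := h.tau_conj
        intro j
        induction j with
        | zero => simp
        | succ j ih =>
          rw [show 3 * (j + 1) = 3 * j + 3 by ring, pow_add]
          calc f τ₀ ^ (3 * j) * f τ₀ ^ 3 * f u₀ * (f τ₀ ^ (3 * j) * f τ₀ ^ 3)⁻¹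
              = f τ₀ ^ (3 * j) * (f τ₀ * (f τ₀ * (f τ₀ * f u₀ * (f τ₀)⁻¹) * (f τ₀)⁻¹) * (f τ₀)⁻¹) *
                  (f τ₀ ^ (3 * j))⁻¹ := by group
            _ = _ := by rw [h1, h2, h3, ih]
      obtain ⟨-, h1, h2, -⟩ := h.tau_conj
      have h0 := hper (orderOf (f τ₀) / 3)
      have hdm := Nat.div_add_mod (orderOf (f τ₀)) 3
      have hpow := pow_orderOf_eq_one (f τ₀)
      rw [← hdm, pow_add] at hpow
      rw [eq_inv_of_mul_eq_one_left hpow, inv_inv] at h0
      have hr : orderOf (f τ₀) % 3 < 3 := Nat.mod_lt _ (by norm_num)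
      by_contra h3'
      have hr0 : orderOf (f τ₀) % 3 ≠ 0 := fun e => h3' (Nat.dvd_of_mod_eq_zero e)
      have hr' : orderOf (f τ₀) % 3 = 1 ∨ orderOf (f τ₀) % 3 = 2 := by omega
      rcases hr' with e | e <;> rw [e] at h0
      · refine hu0 ?_
        calc f u₀ = f τ₀ * ((f τ₀ ^ 1)⁻¹ * f u₀ * f τ₀ ^ 1) * (f τ₀)⁻¹ := by group
          _ = f τ₀ * f u₀ * (f τ₀)⁻¹ := by rw [h0]
          _ = f v₀ := h1
      · refine h.fu_ne.2.1 ?_
        have : f u₀ = f u₀ * f v₀ := by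
          calc f u₀ = f τ₀ * (f τ₀ * ((f τ₀ ^ 2)⁻¹ * f u₀ * f τ₀ ^ 2) * (f τ₀)⁻¹) * (f τ₀)⁻¹ := by group
            _ = f τ₀ * (f τ₀ * f u₀ * (f τ₀)⁻¹) * (f τ₀)⁻¹ := by rw [h0]
            _ = f u₀ * f v₀ := by rw [h1, h2]
        exact left_eq_mul.1 this
    rw [hc, Nat.dvd_iff_mod_eq_zero] at h3
    have h2m : 2 ^ (2 * m + 1) % 3 = 2 := by
      rw [pow_succ, pow_mul]
      simp [Nat.mul_mod, Nat.pow_mod]
    set r := 2 ^ (2 * m + 1)
    obtain ⟨s, hs⟩ : ∃ s, r = 3 * s + 2 := ⟨r / 3, by omega⟩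
    have e1 : (r ^ 2 % 3) = 1 := by rw [Nat.pow_mod, h2m]
    have e2 : (r ^ 2 + 1) % 3 = 2 := by omega
    have e3 : (r - 1) % 3 = 1 := by omega
    rw [Nat.mul_mod, Nat.mul_mod (r ^ 2), e1, e2, e3] at h3
    norm_num at h3
  · obtain ⟨p, hp⟩ := CharP.exists F'
    obtain ⟨n, hpp, hn⟩ := FiniteField.card F' p
    have hp2 : p = 2 := by
      have h2 : 2 ∣ p ^ (n : ℕ) := by
        rw [← hn, hq]; exact dvd_pow hqe.two_dvd (by norm_num)
      exact ((Nat.prime_dvd_prime_iff_eq Nat.prime_two hpp).1 (Nat.prime_two.dvd_of_dvd_pow h2)).symm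
    obtain ⟨i, -, rfl⟩ : ∃ i ≤ (n : ℕ), q = 2 ^ i := (Nat.dvd_prime_pow Nat.prime_two).1 (by
      rw [← hp2, ← hn, hq]; exact dvd_pow_self q (by norm_num))
    have hi : 2 ≤ i := by
      by_contra hlt
      have : 2 ^ i ≤ 2 ^ 1 := Nat.pow_le_pow_right two_pos (by omega)
      omega
    obtain ⟨Q⟩ : Nonempty (Sylow 2 (Cfsg.PSU 3 F' (2 ^ i))) := inferInstance
    obtain ⟨-, -, hfin, -, ⟨x, y, hxy⟩, -⟩ := S1141.result hi hq Q
    have : Finite (Cfsg.PSU 3 F' (2 ^ i)) := Finite.of_equiv G φ.toEquiv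
    obtain ⟨R, hR⟩ := (Q.2.map φ.symm.toMonoidHom).exists_le_sylow
    obtain ⟨g, hg⟩ := MulAction.exists_smul_eq G R P
    have key : ∀ z : Q, g * φ.symm z * g⁻¹ ∈ (P : Subgroup G) := fun z => by
      rw [← hg]
      exact smul_mem_pointwise_smul _ (MulAut.conj g) (R : Subgroup G) (hR ⟨z, z.2, rfl⟩)
    refine hxy (Subtype.ext (φ.symm.injective ?_))
    have := h.comm' (key x) (key y)
    rw [show g * φ.symm x * g⁻¹ * (g * φ.symm y * g⁻¹) = g * (φ.symm x * φ.symm y) * g⁻¹ by group,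
      show g * φ.symm y * g⁻¹ * (g * φ.symm x * g⁻¹) = g * (φ.symm y * φ.symm x) * g⁻¹ by group,
      mul_left_inj, mul_right_inj] at this
    simpa using this

/-- The statement of S1245, given Bender's theorem for the group. -/
theorem isCoatom_of_bender [IsSimpleGroup G] (hna : ¬ IsMulCommutative G) (S : Sylow 2 G)
    (hS : IsMulCommutative (S : Subgroup G)) (t : G) (ht : orderOf t = 2) (E E₀ : Subgroup G)
    (hprod : Cfsg.IsInternalDirectProduct (Subgroup.zpowers t) E (Subgroup.centralizer ({t} : Set G)))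
    (hE₀E : E₀ ≤ E) (hE₀n : (E₀.subgroupOf E).Normal)
    (hE₀ : ∃ (F : Type) (_ : Field F) (_ : Fintype F), Odd (Fintype.card F) ∧
      Nonempty (E₀ ≃* Matrix.ProjectiveSpecialLinearGroup (Fin 2) F))
    (hCE : E ⊓ Subgroup.centralizer (E₀ : Set G) = ⊥)
    (hB : ∀ H : Subgroup G, Cfsg.IsStronglyEmbedded H →
      (∃ (F : Type) (_ : Field F) (_ : Fintype F), CharP F 2 ∧ 4 ≤ Fintype.card F ∧
        Nonempty (G ≃* Matrix.ProjectiveSpecialLinearGroup (Fin 2) F)) ∨ Cfsg.IsSuzuki G ∨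
      (∃ (F : Type) (_ : Field F) (_ : Fintype F) (q : ℕ), Fintype.card F = q ^ 2 ∧ Even q ∧ 4 ≤ q ∧
        Nonempty (G ≃* Cfsg.PSU 3 F q))) :
    IsCoatom (Subgroup.centralizer ({t} : Set G)) := by
  classical
  have : Fact (Nat.Prime 2) := ⟨Nat.prime_two⟩
  obtain ⟨htC, hEC, htE, hinf, hsup⟩ := hprod
  obtain ⟨F, _, _, hodd, ⟨eN⟩⟩ := hE₀
  let f : Matrix.ProjectiveSpecialLinearGroup (Fin 2) F →* G := E₀.subtype.comp eN.symm.toMonoidHom
  have hf : Function.Injective f := E₀.subtype_injective.comp eN.symm.injective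
  have hfE : ∀ x, f x ∈ E₀ := fun x => (eN.symm x).2
  have hrange : ∀ e ∈ E₀, e ∈ f.range := fun e he => ⟨eN ⟨e, he⟩, by simp [f]⟩
  obtain ⟨u₀, v₀, τ₀, hu1, hv1, huv, huu, hvv, hcuv, hτu, hτv⟩ := H64.PSLFour.exists_four (F := F) hodd
  have htt : t * t = 1 := by rw [← pow_two, ← ht, pow_orderOf_eq_one]
  have htf : ∀ x, t * f x = f x * t := fun x => htE t (mem_zpowers t) _ (hE₀E (hfE x))
  set u := f u₀ with hu
  set v := f v₀ with hv
  have hT : IsPGroup 2 (closure ({t, u, v} : Set G)) := by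
    refine IsPGroup.iff_orderOf.2 fun x => ?_
    have hx : (x : G) * x = 1 := by
      refine S3206.sq_eq_one_of_mem_closure ?_ ?_ x.2
      · rintro a (rfl | rfl | rfl)
        exacts [htt, by rw [hu, ← map_mul, huu, map_one], by rw [hv, ← map_mul, hvv, map_one]]
      · rintro a (rfl | rfl | rfl) b (rfl | rfl | rfl)
        exacts [rfl, htf _, htf _, (htf _).symm, rfl, by rw [hu, hv, ← map_mul, hcuv, map_mul],
          (htf _).symm, by rw [hu, hv, ← map_mul, ← hcuv, map_mul], rfl]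
    obtain ⟨i, -, hi⟩ := (Nat.dvd_prime_pow Nat.prime_two).1
      (orderOf_dvd_of_pow_eq_one (show x ^ 2 ^ 1 = 1 from Subtype.ext (by simpa [pow_two] using hx)))
    exact ⟨i, hi⟩
  obtain ⟨P, hP⟩ := hT.exists_le_sylow
  obtain ⟨g, hg⟩ := MulAction.exists_smul_eq G P S
  have hcomm : IsMulCommutative ↥(P : Subgroup G) := by
    refine ⟨⟨fun a b => Subtype.ext ?_⟩⟩
    have key : ∀ c : (P : Subgroup G), g * c * g⁻¹ ∈ (S : Subgroup G) := fun c => by
      rw [← hg]
      exact smul_mem_pointwise_smul _ (MulAut.conj g) (P : Subgroup G) c.2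
    have := congrArg Subtype.val (hS.is_comm.comm ⟨_, key a⟩ ⟨_, key b⟩)
    simp only [Subgroup.coe_mul] at this
    rw [show g * (a : G) * g⁻¹ * (g * (b : G) * g⁻¹) = g * ((a : G) * b) * g⁻¹ by group,
      show g * (b : G) * g⁻¹ * (g * (a : G) * g⁻¹) = g * ((b : G) * a) * g⁻¹ by group, mul_left_inj,
      mul_right_inj] at this
    exact this
  have h : Hyp P t E f u₀ v₀ τ₀ :=
    { odd := hodd, ord := ht, mem := hP (subset_closure (by simp)), comm := hcomm, E_le := hEC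
      tE := fun e he => htE t (mem_zpowers t) e he
      t_not_mem := fun he => by
        have : t ∈ zpowers t ⊓ E := ⟨mem_zpowers t, he⟩
        rw [hinf, mem_bot] at this
        rw [this, orderOf_one] at ht; omega
      dec := fun x hx => by
        obtain ⟨a, ha, e, he, hae⟩ := (H64.SLPair.mem_sup_iff htE).1 (hsup.symm ▸ hx)
        exact ⟨a, (H64.SLPair.mem_zpowers_involution_iff ht).1 ha, e, he, hae⟩
      inj := hf
      range_le := fun x => hE₀E (hfE x)
      conj_range := fun e he x => hrange _ (hE₀n.conj_mem ⟨f x, hE₀E (hfE x)⟩ (hfE x) ⟨e, he⟩)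
      faithful := fun e he hc => by
        have : e ∈ E ⊓ centralizer (E₀ : Set G) := ⟨he, mem_centralizer_iff.2 fun y hy => by
          obtain ⟨x, rfl⟩ := hrange y hy
          exact (hc x).symm⟩
        rwa [hCE, mem_bot] at this
      u_ne := hu1, v_ne := hv1, uv_ne := huv, u_sq := huu, v_sq := hvv, uv_comm := hcuv
      tau_u := hτu, tau_v := hτv
      u_mem := hP (subset_closure (by simp [hu])), v_mem := hP (subset_closure (by simp [hv])) }
  have hperf : _root_.commutator G = ⊤ := by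
    refine (Subgroup.Normal.eq_bot_or_eq_top (inferInstance : (_root_.commutator G).Normal)).resolve_left
      fun h0 => hna ⟨⟨fun a b => ?_⟩⟩
    have : a * b * a⁻¹ * b⁻¹ ∈ _root_.commutator G :=
      Subgroup.commutator_mem_commutator (mem_top a) (mem_top b)
    rw [h0, mem_bot] at this
    exact mul_inv_eq_iff_eq_mul.1 (mul_inv_eq_one.1 this)
  refine ⟨fun htop => ?_, fun M hCM => ?_⟩
  · have htc : t ∈ center G := mem_center_iff.2 fun x =>
      mem_centralizer_singleton_iff.1 (htop ▸ mem_top x)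
    rcases (inferInstance : (center G).Normal).eq_bot_or_eq_top with h0 | h0
    · rw [h0, mem_bot] at htc
      exact h.t_ne_one htc
    · exact hna ⟨⟨fun a b => mem_center_iff.1 (h0 ▸ mem_top b) a⟩⟩
  · by_contra hM
    by_cases hiso : ∀ m ∈ M, m * t * m⁻¹ ∈ (P : Subgroup G) → m * t * m⁻¹ = t
    · exact hCM.ne (h.abelian_case hperf hCM.le hiso).symm
    · push Not at hiso
      obtain ⟨m, hm, hmP, hmt⟩ := hiso
      exact h.not_bender (hB M (h.nonabelian_case hM hCM.le hm hmP hmt))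

end Cfsg.Agent.H91.JRMax
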