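import Mathlib
import Cfsg.Agent.H64.PSLFour
import Cfsg.Agent.Linear.Simple
import Cfsg.Agent.Linear.TwoTorus

/-!
# PSL₂ of odd order field: subgroups inverted by an involution and normalised by its centraliser

Also: odd order normal subgroups are trivial, and in characteristic two centralisers are commutative.
-/

set_option autoImplicit false

namespace Cfsg.Agent.H91.JRMax

open Matrix
open Cfsg.Agent.H34 (IsPair)

variable {F : Type*} [Field F]

local notation "M2" => Matrix (Fin 2) (Fin 2) F
local notation "S2" => Matrix.SpecialLinearGroup (Fin 2) F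
local notation "P2" => Matrix.ProjectiveSpecialLinearGroup (Fin 2) F
local notation "π" => (QuotientGroup.mk : S2 → P2)

/-- Elements commuting in PSL₂ lift to commuting or anticommuting elements. -/
theorem lift_commute {a b : S2} (h : π a * π b = π b * π a) : a * b = b * a ∨ a * b = -(b * a) := by
  rw [← QuotientGroup.mk_mul, ← QuotientGroup.mk_mul] at h
  rcases H34.proj_eq_iff.1 h with e | e
  · exact Or.inl e.symm
  · exact Or.inr (by rw [e, neg_neg])

/-- An element of odd order commuting in PSL₂ has a lift which commutes. -/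
theorem lift_commute_odd {x : P2} (hx : Odd (orderOf x)) (hx1 : x ≠ 1) {j : S2} (hc : x * π j = π j * x) :
    ∃ a : S2, π a = x ∧ a * j = j * a ∧ ¬ Linear.IsScalarTwo (a : M2) := by
  obtain ⟨k, hk⟩ := hx
  obtain ⟨b, hb⟩ := QuotientGroup.mk_surjective (x ^ (k + 1))
  have hx2 : π (b * b) = x := by
    rw [QuotientGroup.mk_mul, hb, ← pow_add, show k + 1 + (k + 1) = orderOf x + 1 by omega, pow_succ,
      pow_orderOf_eq_one, one_mul]
  refine ⟨b * b, hx2, ?_, ?_⟩
  · have h := lift_commute (a := b) (b := j) (by rw [hb]; exact (Commute.pow_left hc (k + 1)).eq)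
    rcases h with h | h
    · rw [mul_assoc, h, ← mul_assoc, h, mul_assoc]
    · rw [mul_assoc, h, mul_neg, ← mul_assoc, h, neg_mul, neg_neg, mul_assoc]
  · intro hs
    rw [Linear.isScalarTwo_SL_iff] at hs
    apply hx1
    rw [← hx2]
    rcases hs with e | e <;> rw [e]
    · rfl
    · rw [H34.proj_neg]; rfl

/-- Two elements of PSL₂ lifted into the centraliser of the same non-scalar element commute. -/
theorem comm_of_centralizer {j a b : S2} (hj : ¬ Linear.IsScalarTwo (j : M2)) (ha : a * j = j * a)
    (hb : b * j = j * b) : a * b = b * a :=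
  Linear.centralizer_comm hj (Subgroup.mem_centralizer_singleton_iff.2 ha)
    (Subgroup.mem_centralizer_singleton_iff.2 hb)

/-- In PSL₂ of characteristic two centralisers of nontrivial elements are commutative. -/
theorem centralizer_comm_char_two [CharP F 2] {t a b : P2} (ht : t ≠ 1) (ha : a * t = t * a)
    (hb : b * t = t * b) : a * b = b * a := by
  obtain ⟨t, rfl⟩ := QuotientGroup.mk_surjective t
  obtain ⟨a, rfl⟩ := QuotientGroup.mk_surjective a
  obtain ⟨b, rfl⟩ := QuotientGroup.mk_surjective b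
  have hneg : ∀ g : S2, -g = g := fun g => Subtype.ext (by
    rw [Matrix.SpecialLinearGroup.coe_neg]
    ext i j
    exact CharTwo.neg_eq _)
  have hns : ¬ Linear.IsScalarTwo (t : M2) := fun hs => ht (by
    rcases Linear.isScalarTwo_SL_iff.1 hs with e | e <;> rw [e]
    · rfl
    · rw [hneg]; rfl)
  have ha' : a * t = t * a := (lift_commute ha).elim id fun e => e.trans (hneg _)
  have hb' : b * t = t * b := (lift_commute hb).elim id fun e => e.trans (hneg _)
  rw [← QuotientGroup.mk_mul, comm_of_centralizer hns ha' hb', QuotientGroup.mk_mul]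

/-- An involution together with a second one commuting with it, lifted. -/
theorem exists_pair [Fintype F] (hodd : Odd (Fintype.card F)) {e : P2} (he1 : e ≠ 1) (he : e * e = 1) :
    ∃ i y : S2, π i = e ∧ IsPair i y := by
  have h2 := Linear.two_ne_zero_of_odd_card hodd
  obtain ⟨i, rfl⟩ := QuotientGroup.mk_surjective e
  have hii := H34.lift_involution h2 he1 he rfl
  obtain ⟨-, t4⟩ := H34.trace_zero_of_sq h2 hii
  obtain ⟨y, hy⟩ := Linear.exists_inverter t4
  refine ⟨i, y, rfl, hii, Linear.inverter_sq t4 hy, ?_⟩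
  rw [H34.sl_inv_eq_neg hii, mul_inv_eq_iff_eq_mul, neg_mul] at hy
  rw [hy, neg_neg]

/-- The only elements of PSL₂ centralising a four-group are its members. -/
theorem centralizer_pair (h2 : (2 : F) ≠ 0) {i j : S2} (hp : IsPair i j) {z : P2}
    (hi : z * π i = π i * z) (hj : z * π j = π j * z) :
    z = 1 ∨ z = π i ∨ z = π j ∨ z = π i * π j := by
  obtain ⟨g, rfl⟩ := QuotientGroup.mk_surjective z
  have key : ∀ w : S2, (w * g) * i = i * (w * g) → (w * g) * j = j * (w * g) → π g = (π w)⁻¹ := by
    intro w h1 h2'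
    refine eq_inv_of_mul_eq_one_right ?_
    rw [← QuotientGroup.mk_mul]
    rcases hp.eq_one_or_neg_one h2 h1 h2' with e | e <;> rw [e]
    · rfl
    · rw [H34.proj_neg]; rfl
  have hinv : ∀ {x : S2}, x * x = -1 → (π x)⁻¹ = π x := fun {x} hx => inv_eq_of_mul_eq_one_right (H34.proj_sq hx)
  have hij : i * j = -(j * i) := hp.2.2
  have hji : j * i = -(i * j) := by rw [hij, neg_neg]
  rcases lift_commute hi with a | a <;> rcases lift_commute hj with b | b
  · left
    have := key 1 (by simpa using a) (by simpa using b)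
    simpa using this
  · right; left
    rw [key i (by rw [mul_assoc, a]) (by
      rw [mul_assoc, b, mul_neg, ← mul_assoc, hij, neg_mul, neg_neg, mul_assoc]), hinv hp.1]
  · right; right; left
    rw [key j (by rw [mul_assoc, a, mul_neg, ← mul_assoc, hji, neg_mul, neg_neg, mul_assoc])
      (by rw [mul_assoc, b]), hinv hp.2.1]
  · right; right; right
    rw [← QuotientGroup.mk_mul]
    rw [key (i * j) ?_ ?_, hinv hp.prod.2.1]
    · calc i * j * g * i = i * j * (g * i) := by rw [mul_assoc]
        _ = -(i * (j * i) * g) := by rw [a, mul_neg]; simp only [mul_assoc]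
        _ = i * (i * j * g) := by rw [hji, mul_neg, neg_mul, neg_neg]; simp only [mul_assoc]
    · calc i * j * g * j = i * j * (g * j) := by rw [mul_assoc]
        _ = -((i * j) * j * g) := by rw [b, mul_neg]; simp only [mul_assoc]
        _ = j * (i * j * g) := by
          rw [show (i * j) * j = -(j * i) * j by rw [← hij], neg_mul, neg_mul, neg_neg]
          simp only [mul_assoc]

/-- A subgroup of odd order, commutative, inverted by an involution and normalised by the centraliser
of that involution is trivial. -/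
theorem eq_bot_of_inverted [Fintype F] (hodd : Odd (Fintype.card F)) {e : P2} (he1 : e ≠ 1)
    (he : e * e = 1) (X : Subgroup P2) (hX : Odd (Nat.card X)) (hab : ∀ a ∈ X, ∀ b ∈ X, a * b = b * a)
    (hinv : ∀ x ∈ X, e * x * e⁻¹ = x⁻¹) (hnorm : ∀ c : P2, c * e = e * c → ∀ x ∈ X, c * x * c⁻¹ ∈ X) :
    X = ⊥ := by
  classical
  have h2 := Linear.two_ne_zero_of_odd_card hodd
  by_contra hne
  obtain ⟨⟨x, hxX⟩, hx0⟩ := Subgroup.ne_bot_iff_exists_ne_one.1 hne
  have hx1 : x ≠ 1 := fun h => hx0 (Subtype.ext h)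
  have hord : ∀ z ∈ X, Odd (orderOf z) := fun z hz =>
    hX.of_dvd_nat (Subgroup.orderOf_dvd_natCard X hz)
  obtain ⟨i, y, rfl, hp⟩ := exists_pair hodd he1 he
  -- a second involution of the four-group fixes a nontrivial element
  obtain ⟨j, hpj, x', hx'X, hx'1, hx'c⟩ :
      ∃ j : S2, IsPair i j ∧ ∃ x' ∈ X, x' ≠ 1 ∧ x' * π j = π j * x' := by
    have hyX := hnorm (π y) hp.proj_comm.symm x hxX
    have hyy : π y * π y = 1 := H34.proj_sq hp.2.1
    by_cases h : x * (π y * x * (π y)⁻¹) = 1
    · refine ⟨i * y, hp.prod, x, hxX, hx1, ?_⟩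
      have hy' : π y * x * (π y)⁻¹ = x⁻¹ := eq_inv_of_mul_eq_one_right h
      have hix : π i * x⁻¹ * (π i)⁻¹ = x := by rw [hinv _ (inv_mem hxX), inv_inv]
      rw [QuotientGroup.mk_mul]
      have : π i * π y * x * (π i * π y)⁻¹ = x := by
        calc π i * π y * x * (π i * π y)⁻¹ = π i * (π y * x * (π y)⁻¹) * (π i)⁻¹ := by group
          _ = x := by rw [hy', hix]
      exact (mul_inv_eq_iff_eq_mul.1 this).symm
    · refine ⟨y, hp, _, mul_mem hxX hyX, h, ?_⟩
      refine (mul_inv_eq_iff_eq_mul.1 (show π y * (x * (π y * x * (π y)⁻¹)) * (π y)⁻¹ =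
        x * (π y * x * (π y)⁻¹) from ?_)).symm
      calc π y * (x * (π y * x * (π y)⁻¹)) * (π y)⁻¹
          = (π y * x * (π y)⁻¹) * ((π y * π y) * x * (π y * π y)⁻¹) := by group
        _ = _ := by rw [hyy, one_mul, inv_one, mul_one, hab _ hyX _ hxX]
  obtain ⟨-, j4⟩ := H34.trace_zero_of_sq h2 hpj.2.1
  have hjns := Linear.not_isScalarTwo_of_trace j4
  obtain ⟨a, ha, haj, hans⟩ := lift_commute_odd (hord _ hx'X) hx'1 hx'c
  -- the centraliser of e permutes the lifts, hence fixes the second involution
  have hcent : ∀ c : P2, c * π i = π i * c → c * π j = π j * c := by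
    intro c hc
    obtain ⟨g, rfl⟩ := QuotientGroup.mk_surjective c
    have hcX := hnorm _ hc _ hx'X
    obtain ⟨b, hb, hba, hbns⟩ := lift_commute_odd (hord _ hcX) (by rwa [ne_eq, conj_eq_one_iff])
      (j := a) (by rw [ha]; exact hab _ hcX _ hx'X)
    -- b lies in the torus of j, and is ± the conjugate of a
    have hba' : a * b = b * a := hba.symm
    have hbj : b * j = j * b := comm_of_centralizer hans hba haj.symm
    have hgb : g * a * g⁻¹ = b ∨ g * a * g⁻¹ = -b := H34.proj_eq_iff.1 (by
      rw [hb, ← ha]; rfl)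
    set j' := g * j * g⁻¹ with hj'
    have hbj' : b * j' = j' * b := by
      have h1 : (g * a * g⁻¹) * j' = j' * (g * a * g⁻¹) := by
        rw [hj', show g * a * g⁻¹ * (g * j * g⁻¹) = g * (a * j) * g⁻¹ by group, haj]
        group
      rcases hgb with e | e <;> rw [e] at h1
      · exact h1
      · simpa using h1
    have hjj' : j' * j = j * j' := comm_of_centralizer hbns hbj'.symm hbj.symm
    have htr : (j' : M2).trace = (j : M2).trace := by
      rw [(H34.trace_zero_of_sq h2 (hpj.conj g).2.1).1, (H34.trace_zero_of_sq h2 hpj.2.1).1]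
    have he' : π (g * j * g⁻¹) = π j := by
      rcases Linear.eq_or_eq_inv_of_trace j4 (Subgroup.mem_centralizer_singleton_iff.2 hjj') htr with e | e
      · rw [← hj', e]
      · rw [← hj', e, H34.sl_inv_eq_neg hpj.2.1, H34.proj_neg]
    exact mul_inv_eq_iff_eq_mul.1 he'
  -- so the centraliser of e is the four-group, but the conjugate centraliser contains x'
  obtain ⟨-, i4⟩ := H34.trace_zero_of_sq h2 hpj.1
  obtain ⟨g, hg⟩ := isConj_iff.1 (Linear.isConj_of_trace_eq hjns (Linear.not_isScalarTwo_of_trace i4)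
    ((H34.trace_zero_of_sq h2 hpj.2.1).1.trans (H34.trace_zero_of_sq h2 hpj.1).1.symm) (Or.inr j4))
  have hi : π i = π g * π j * (π g)⁻¹ := by rw [← hg]; rfl
  have hz : π g * x' * (π g)⁻¹ * π i = π i * (π g * x' * (π g)⁻¹) := by
    rw [hi, show π g * x' * (π g)⁻¹ * (π g * π j * (π g)⁻¹) = π g * (x' * π j) * (π g)⁻¹ by group, hx'c]
    group
  have hzz : (π g * x' * (π g)⁻¹) * (π g * x' * (π g)⁻¹) = 1 := by
    rcases centralizer_pair h2 hpj hz (hcent _ hz) with e | e | e | e <;> rw [e]
    · simp
    · exact H34.proj_sq hpj.1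
    · exact H34.proj_sq hpj.2.1
    · rw [← QuotientGroup.mk_mul]; exact H34.proj_sq hpj.prod.2.1
  have hx2 : x' * x' = 1 := by
    rw [show π g * x' * (π g)⁻¹ * (π g * x' * (π g)⁻¹) = π g * (x' * x') * (π g)⁻¹ by group,
      conj_eq_one_iff] at hzz
    exact hzz
  refine hx'1 (orderOf_eq_one_iff.1 (Nat.eq_one_of_dvd_coprimes ?_ dvd_rfl
    (orderOf_dvd_of_pow_eq_one (show x' ^ 2 = 1 by rw [pow_two, hx2]))))
  exact Nat.coprime_two_right.2 (hord _ hx'X)

/-- A normal subgroup of odd order of PSL₂ is trivial. -/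
theorem eq_bot_of_normal_odd [Fintype F] (hodd : Odd (Fintype.card F)) (K : Subgroup P2) [hK : K.Normal]
    (hKo : Odd (Nat.card K)) : K = ⊥ := by
  classical
  have h2 := Linear.two_ne_zero_of_odd_card hodd
  obtain ⟨u, v, τ, hu1, hv1, huv, huu, hvv, hc, hτu, hτv⟩ := H64.PSLFour.exists_four (F := F) hodd
  have h1 : 1 < Fintype.card F := Fintype.one_lt_card
  by_cases h3 : Fintype.card F = 3
  · -- the only possibility would have order three, and be centralised by a four-group
    by_contra hne
    have hc12 : Nat.card P2 = 12 := by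
      have h := Linear.card_PSL_two_mul (F := F)
      rw [h3, show Nat.gcd 2 (3 - 1) = 2 from rfl] at h
      omega
    have hKd : Nat.card K ∣ 12 := hc12 ▸ Subgroup.card_subgroup_dvd_card K
    have hK1 : Nat.card K ≠ 1 := fun h => hne (Subgroup.card_eq_one.1 h)
    have hK3 : Nat.card K = 3 := by
      have := Nat.le_of_dvd (by norm_num) hKd
      rw [Nat.odd_iff] at hKo
      interval_cases h : Nat.card K <;> omega
    have : Fact (Nat.Prime 3) := ⟨Nat.prime_three⟩
    have := isCyclic_of_prime_card hK3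
    let _ := IsCyclic.commGroup (α := K)
    obtain ⟨i, hi⟩ := QuotientGroup.mk_surjective u
    have hbot : ∀ e : P2, e ≠ 1 → e * e = 1 → ∀ x ∈ K, x ≠ 1 → e * x * e⁻¹ = x := by
      intro e he1 he x hx hx1
      by_contra hex
      refine hne (eq_bot_of_inverted hodd he1 he K hKo (fun a ha b hb => ?_) (fun z hz => ?_)
        (fun c _ z hz => hK.conj_mem z hz c))
      · exact congrArg Subtype.val (mul_comm (⟨a, ha⟩ : K) ⟨b, hb⟩)
      · have hel : ∀ z ∈ K, z = 1 ∨ z = x ∨ z = x⁻¹ := by
          intro z hz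
          obtain ⟨k, hk⟩ := Subgroup.mem_zpowers_iff.1
            (mem_zpowers_of_prime_card (p := 3) hK3 (g := (⟨x, hx⟩ : K)) (g' := ⟨z, hz⟩)
              (fun h => hx1 (congrArg Subtype.val h)))
          have hx3 : x ^ (3 : ℕ) = 1 := by
            have := pow_card_eq_one' (x := (⟨x, hx⟩ : K))
            rw [hK3] at this
            exact congrArg Subtype.val this
          have hkz : x ^ k = z := by simpa using congrArg Subtype.val hk
          rw [← hkz, zpow_eq_zpow_emod' k hx3]
          have h0 : 0 ≤ k % 3 := Int.emod_nonneg _ (by norm_num)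
          have h3' : k % 3 < 3 := Int.emod_lt_of_pos _ (by norm_num)
          have hc : k % ((3 : ℕ) : ℤ) = 0 ∨ k % ((3 : ℕ) : ℤ) = 1 ∨ k % ((3 : ℕ) : ℤ) = 2 := by
            push_cast; omega
          rcases hc with e | e | e <;> rw [e]
          · simp
          · simp
          · refine Or.inr (Or.inr (eq_inv_of_mul_eq_one_right ?_))
            rw [show (2 : ℤ) = ((2 : ℕ) : ℤ) from rfl, zpow_natCast, ← pow_succ', hx3]
        have hexK := hel _ (hK.conj_mem x hx e)
        have hei : e * x * e⁻¹ = x⁻¹ := by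
          rcases hexK with h | h | h
          · exact absurd (conj_eq_one_iff.1 h) hx1
          · exact absurd h hex
          · exact h
        rcases hel z hz with rfl | rfl | rfl
        · simp
        · exact hei
        · have := congrArg (·⁻¹) hei
          simpa [mul_assoc] using this
    obtain ⟨⟨x, hxK⟩, hx0⟩ := Subgroup.ne_bot_iff_exists_ne_one.1 hne
    have hx1 : x ≠ 1 := fun h => hx0 (Subtype.ext h)
    obtain ⟨j, hj⟩ := QuotientGroup.mk_surjective v
    have hp : IsPair i j := H34.isPair_of_proj h2 (hi ▸ hu1) (hj ▸ hv1) (hi ▸ huu) (hj ▸ hvv)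
      (by rw [hi, hj]; exact hc) (by rw [hi, hj]; exact huv)
    have hxx : x * x = 1 := by
      rcases centralizer_pair h2 hp (z := x)
        (by rw [hi]; exact (mul_inv_eq_iff_eq_mul.1 (hbot u hu1 huu x hxK hx1)).symm)
        (by rw [hj]; exact (mul_inv_eq_iff_eq_mul.1 (hbot v hv1 hvv x hxK hx1)).symm) with e | e | e | e <;>
        rw [e]
      · simp
      · exact H34.proj_sq hp.1
      · exact H34.proj_sq hp.2.1
      · rw [← QuotientGroup.mk_mul]; exact H34.proj_sq hp.prod.2.1
    refine hx1 (orderOf_eq_one_iff.1 (Nat.eq_one_of_dvd_coprimes ?_ dvd_rfl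
      (orderOf_dvd_of_pow_eq_one (show x ^ 2 = 1 by rw [pow_two, hxx]))))
    exact Nat.coprime_two_right.2 (hKo.of_dvd_nat (Subgroup.orderOf_dvd_natCard K hxK))
  · have : IsSimpleGroup P2 := Linear.isSimpleGroup_PSL_fin le_rfl fun _ => by
      rw [Nat.card_eq_fintype_card]; obtain ⟨r, hr⟩ := hodd; omega
    refine hK.eq_bot_or_eq_top.resolve_right fun h => ?_
    have h2' : orderOf u ∣ Nat.card K := Subgroup.orderOf_dvd_natCard K (h ▸ Subgroup.mem_top u)
    rw [orderOf_eq_prime (p := 2) (by rw [pow_two, huu]) hu1] at h2'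
    rw [Nat.odd_iff] at hKo
    omega

end Cfsg.Agent.H91.JRMax
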