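import Cfsg.Agent.H91.JRMax.Linear
import Cfsg.Agent.H64.SLPair
import Cfsg.Agent.S3206

/-!
# An involution whose centraliser is ⟨t⟩ times a subgroup of type PSL₂(q), abelian Sylow 2-subgroup

The Sylow subgroup is elementary of order eight; a subgroup of its normaliser which contains the
element of order three of the PSL₂ and moves t is transitive on its involutions.
-/

set_option autoImplicit false
set_option linter.unusedSectionVars false

namespace Cfsg.Agent.H91.JRMax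

open Subgroup

variable {G : Type*} [Group G] [Finite G] {F : Type*} [Field F] [Fintype F]

local notation "P2" => Matrix.ProjectiveSpecialLinearGroup (Fin 2) F

/-- The standing hypotheses. -/
structure Hyp (P : Sylow 2 G) (t : G) (E : Subgroup G) (f : P2 →* G) (u₀ v₀ τ₀ : P2) : Prop where
  odd : Odd (Fintype.card F)
  ord : orderOf t = 2
  mem : t ∈ (P : Subgroup G)
  comm : IsMulCommutative ↥(P : Subgroup G)
  E_le : E ≤ centralizer ({t} : Set G)
  tE : ∀ e ∈ E, t * e = e * t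
  t_not_mem : t ∉ E
  dec : ∀ x ∈ centralizer ({t} : Set G), ∃ a, (a = 1 ∨ a = t) ∧ ∃ e ∈ E, a * e = x
  inj : Function.Injective f
  range_le : ∀ x, f x ∈ E
  conj_range : ∀ e ∈ E, ∀ x, e * f x * e⁻¹ ∈ f.range
  faithful : ∀ e ∈ E, (∀ x, e * f x = f x * e) → e = 1
  u_ne : u₀ ≠ 1
  v_ne : v₀ ≠ 1
  uv_ne : u₀ ≠ v₀
  u_sq : u₀ * u₀ = 1
  v_sq : v₀ * v₀ = 1
  uv_comm : u₀ * v₀ = v₀ * u₀
  tau_u : τ₀ * u₀ * τ₀⁻¹ = v₀
  tau_v : τ₀ * v₀ * τ₀⁻¹ = u₀ * v₀
  u_mem : f u₀ ∈ (P : Subgroup G)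
  v_mem : f v₀ ∈ (P : Subgroup G)

variable {P : Sylow 2 G} {t : G} {E : Subgroup G}
  {f : Matrix.ProjectiveSpecialLinearGroup (Fin 2) F →* G} {u₀ v₀ τ₀ : Matrix.ProjectiveSpecialLinearGroup (Fin 2) F}

theorem Hyp.comm' (h : Hyp P t E f u₀ v₀ τ₀) {a b : G} (ha : a ∈ (P : Subgroup G)) (hb : b ∈ (P : Subgroup G)) :
    a * b = b * a :=
  congrArg Subtype.val (h.comm.is_comm.comm ⟨a, ha⟩ ⟨b, hb⟩)

theorem Hyp.sylow_le (h : Hyp P t E f u₀ v₀ τ₀) : (P : Subgroup G) ≤ centralizer ({t} : Set G) :=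
  fun _ hx => mem_centralizer_singleton_iff.2 (h.comm' hx h.mem)

theorem Hyp.t_ne_one (h : Hyp P t E f u₀ v₀ τ₀) : t ≠ 1 := fun e => by
  have := h.ord; rw [e, orderOf_one] at this; omega

theorem Hyp.tt (h : Hyp P t E f u₀ v₀ τ₀) : t * t = 1 := by
  rw [← pow_two, ← h.ord, pow_orderOf_eq_one]

theorem Hyp.t_comm (h : Hyp P t E f u₀ v₀ τ₀) (x : P2) : t * f x = f x * t := h.tE _ (h.range_le x)

theorem Hyp.range_mem (h : Hyp P t E f u₀ v₀ τ₀) (x : P2) : f x ∈ centralizer ({t} : Set G) :=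
  h.E_le (h.range_le x)

theorem Hyp.conj_E (h : Hyp P t E f u₀ v₀ τ₀) {c e : G} (hc : c ∈ centralizer ({t} : Set G)) (he : e ∈ E) :
    c * e * c⁻¹ ∈ E := by
  obtain ⟨a, ha, e', he', rfl⟩ := h.dec c hc
  have : a * e' * e * (a * e')⁻¹ = e' * e * e'⁻¹ := by
    rcases ha with rfl | rfl
    · simp
    · rename_i hc'
      calc a * e' * e * (a * e')⁻¹ = a * (e' * e * e'⁻¹) * a⁻¹ := by group
        _ = _ := by rw [h.tE _ (mul_mem (mul_mem he' he) (inv_mem he')), mul_inv_cancel_right]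
  rw [this]
  exact mul_mem (mul_mem he' he) (inv_mem he')

theorem Hyp.conj_range' (h : Hyp P t E f u₀ v₀ τ₀) {c : G} (hc : c ∈ centralizer ({t} : Set G)) (x : P2) :
    c * f x * c⁻¹ ∈ f.range := by
  obtain ⟨a, ha, e', he', rfl⟩ := h.dec c hc
  obtain ⟨y, hy⟩ := h.conj_range e' he' x
  refine ⟨y, ?_⟩
  rcases ha with rfl | rfl
  · simpa using hy
  · calc f y = a * f y * a⁻¹ := by rw [h.t_comm, mul_inv_cancel_right]
      _ = a * e' * f x * (a * e')⁻¹ := by rw [hy]; group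

theorem Hyp.abelian_psl (h : Hyp P t E f u₀ v₀ τ₀) (Q : Sylow 2 P2) : IsMulCommutative ↥(Q : Subgroup P2) := by
  have : Fact (Nat.Prime 2) := ⟨Nat.prime_two⟩
  obtain ⟨R, hR⟩ := (Q.2.map f).exists_le_sylow
  obtain ⟨g, hg⟩ := MulAction.exists_smul_eq G R P
  refine ⟨⟨fun a b => Subtype.ext (h.inj ?_)⟩⟩
  have key : ∀ c : (Q : Subgroup P2), g * f c * g⁻¹ ∈ (P : Subgroup G) := fun c => by
    rw [← hg]
    exact smul_mem_pointwise_smul _ (MulAut.conj g) (R : Subgroup G) (hR ⟨c, c.2, rfl⟩)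
  have := h.comm' (key a) (key b)
  rw [show g * f a * g⁻¹ * (g * f b * g⁻¹) = g * (f a * f b) * g⁻¹ by group,
    show g * f b * g⁻¹ * (g * f a * g⁻¹) = g * (f b * f a) * g⁻¹ by group, mul_left_inj, mul_right_inj,
    ← map_mul, ← map_mul] at this
  exact this

theorem Hyp.sylow_inter (h : Hyp P t E f u₀ v₀ τ₀) {x : G} (hxP : x ∈ (P : Subgroup G)) (hxE : x ∈ E) :
    x = 1 ∨ x = f u₀ ∨ x = f v₀ ∨ x = f u₀ * f v₀ := by
  obtain ⟨k, hk⟩ := IsPGroup.iff_orderOf.1 P.2 ⟨x, hxP⟩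
  rw [Subgroup.orderOf_mk] at hk
  obtain ⟨w, hw, hwe⟩ := S3206.inner_on h.odd f h.inj h.abelian_psl (MulAut.conj x) (k := k)
    (by rw [← map_pow, ← hk, pow_orderOf_eq_one, map_one]) (h.conj_range x hxE) h.u_ne h.v_ne h.uv_ne
    h.u_sq h.v_sq h.uv_comm
    (by show x * f u₀ * x⁻¹ = f u₀; rw [h.comm' hxP h.u_mem, mul_inv_cancel_right])
    (by show x * f v₀ * x⁻¹ = f v₀; rw [h.comm' hxP h.v_mem, mul_inv_cancel_right])
  have hwE : w ∈ E := by
    rcases hw with rfl | rfl | rfl | rfl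
    exacts [one_mem _, h.range_le _, h.range_le _, mul_mem (h.range_le _) (h.range_le _)]
  have h1 := h.faithful (w⁻¹ * x) (mul_mem (inv_mem hwE) hxE) fun y => by
    have h' : x * f y * x⁻¹ = w * f y * w⁻¹ := hwe y
    calc w⁻¹ * x * f y = w⁻¹ * (x * f y * x⁻¹) * x := by group
      _ = _ := by rw [h']; group
  rw [← inv_mul_eq_one.1 h1]
  exact hw

theorem Hyp.elems (h : Hyp P t E f u₀ v₀ τ₀) {x : G} (hx : x ∈ (P : Subgroup G)) :
    ∃ a, (a = 1 ∨ a = t) ∧ ∃ w, (w = 1 ∨ w = f u₀ ∨ w = f v₀ ∨ w = f u₀ * f v₀) ∧ x = a * w := by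
  obtain ⟨a, ha, e, he, rfl⟩ := h.dec x (h.sylow_le hx)
  have haP : a ∈ (P : Subgroup G) := by
    rcases ha with rfl | rfl
    exacts [one_mem _, h.mem]
  exact ⟨a, ha, e, h.sylow_inter (by simpa using mul_mem (inv_mem haP) hx) he, rfl⟩

theorem Hyp.sq (h : Hyp P t E f u₀ v₀ τ₀) {x : G} (hx : x ∈ (P : Subgroup G)) : x * x = 1 := by
  obtain ⟨a, ha, w, hw, rfl⟩ := h.elems hx
  refine S3206.sq_eq_one_of_mem_closure (s := ({t, f u₀, f v₀} : Set G)) ?_ ?_ ?_
  · rintro b (rfl | rfl | rfl)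
    exacts [h.tt, by rw [← map_mul, h.u_sq, map_one], by rw [← map_mul, h.v_sq, map_one]]
  · have hmem : ∀ b ∈ ({t, f u₀, f v₀} : Set G), b ∈ (P : Subgroup G) := by
      rintro b (rfl | rfl | rfl)
      exacts [h.mem, h.u_mem, h.v_mem]
    exact fun b hb c hc => h.comm' (hmem b hb) (hmem c hc)
  · refine mul_mem ?_ ?_
    · rcases ha with rfl | rfl
      exacts [one_mem _, subset_closure (by simp)]
    · rcases hw with rfl | rfl | rfl | rfl
      exacts [one_mem _, subset_closure (by simp), subset_closure (by simp),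
        mul_mem (subset_closure (by simp)) (subset_closure (by simp))]

theorem Hyp.fu_ne (h : Hyp P t E f u₀ v₀ τ₀) : f u₀ ≠ 1 ∧ f v₀ ≠ 1 ∧ f u₀ ≠ f v₀ ∧ f u₀ * f v₀ ≠ 1 :=
  ⟨fun e => h.u_ne (h.inj (e.trans (map_one f).symm)), fun e => h.v_ne (h.inj (e.trans (map_one f).symm)),
    fun e => h.uv_ne (h.inj e), fun e => h.uv_ne (by
      rw [← map_mul, ← map_one f] at e
      rw [← inv_eq_of_mul_eq_one_right h.u_sq]
      exact inv_eq_of_mul_eq_one_right (h.inj e))⟩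

theorem Hyp.tau_conj (h : Hyp P t E f u₀ v₀ τ₀) :
    f τ₀ * t * (f τ₀)⁻¹ = t ∧ f τ₀ * f u₀ * (f τ₀)⁻¹ = f v₀ ∧
      f τ₀ * f v₀ * (f τ₀)⁻¹ = f u₀ * f v₀ ∧ f τ₀ * (f u₀ * f v₀) * (f τ₀)⁻¹ = f u₀ := by
  refine ⟨by rw [← h.t_comm τ₀, mul_inv_cancel_right], ?_, ?_, ?_⟩
  · rw [← map_inv, ← map_mul, ← map_mul, h.tau_u]
  · rw [← map_inv, ← map_mul, ← map_mul, ← map_mul, h.tau_v]
  · rw [← map_inv, ← map_mul, ← map_mul, ← map_mul]
    congr 1
    calc τ₀ * (u₀ * v₀) * τ₀⁻¹ = (τ₀ * u₀ * τ₀⁻¹) * (τ₀ * v₀ * τ₀⁻¹) := by group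
      _ = v₀ * (v₀ * u₀) := by rw [h.tau_u, h.tau_v, h.uv_comm]
      _ = u₀ := by rw [← mul_assoc, h.v_sq, one_mul]

theorem Hyp.tau_mem (h : Hyp P t E f u₀ v₀ τ₀) : f τ₀ ∈ normalizer ((P : Subgroup G) : Set G) := by
  obtain ⟨h0, h1, h2, h3⟩ := h.tau_conj
  have hτ : ∀ x ∈ (P : Subgroup G), f τ₀ * x * (f τ₀)⁻¹ ∈ (P : Subgroup G) := by
    intro x hx
    obtain ⟨a, ha, w, hw, rfl⟩ := h.elems hx
    rw [show f τ₀ * (a * w) * (f τ₀)⁻¹ = (f τ₀ * a * (f τ₀)⁻¹) * (f τ₀ * w * (f τ₀)⁻¹) by group]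
    refine mul_mem ?_ ?_
    · rcases ha with rfl | rfl
      · simp
      · rw [h0]; exact h.mem
    · rcases hw with rfl | rfl | rfl | rfl
      · simp
      · rw [h1]; exact h.v_mem
      · rw [h2]; exact mul_mem h.u_mem h.v_mem
      · rw [h3]; exact h.u_mem
  rw [mem_normalizer_iff_map_conj_eq]
  refine eq_of_le_of_card_ge ?_ (le_of_eq (card_map_of_injective (MulAut.conj (f τ₀)).injective).symm)
  rintro _ ⟨x, hx, rfl⟩
  exact hτ x hx

theorem Hyp.involution_mem_range (h : Hyp P t E f u₀ v₀ τ₀) {e : G} (he : e ∈ E) (he2 : e * e = 1) :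
    e ∈ f.range := by
  have : Fact (Nat.Prime 2) := ⟨Nat.prime_two⟩
  by_cases he1 : e = 1
  · rw [he1]; exact one_mem _
  have ho : orderOf (⟨e, h.E_le he⟩ : centralizer ({t} : Set G)) = 2 := by
    rw [Subgroup.orderOf_mk, orderOf_eq_prime (p := 2) (by rw [pow_two, he2]) he1]
  have hp : IsPGroup 2 (zpowers (⟨e, h.E_le he⟩ : centralizer ({t} : Set G))) :=
    IsPGroup.of_card (n := 1) (by rw [Nat.card_zpowers, ho, pow_one])
  obtain ⟨Q, hQ⟩ := hp.exists_le_sylow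
  obtain ⟨c, hc⟩ := MulAction.exists_smul_eq (centralizer ({t} : Set G)) Q (P.subtype h.sylow_le)
  have hmem : (c : G) * e * (c : G)⁻¹ ∈ (P : Subgroup G) := by
    have := smul_mem_pointwise_smul _ (MulAut.conj c) (Q : Subgroup (centralizer ({t} : Set G))) (hQ (mem_zpowers _))
    have h2 : MulAut.conj c • (⟨e, h.E_le he⟩ : centralizer ({t} : Set G)) ∈
        (P.subtype h.sylow_le : Subgroup (centralizer ({t} : Set G))) := hc ▸ this
    exact h2
  obtain ⟨y, hy⟩ : (c : G) * e * (c : G)⁻¹ ∈ f.range := by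
    rcases h.sylow_inter hmem (h.conj_E c.2 he) with e' | e' | e' | e' <;> rw [e']
    exacts [one_mem _, ⟨u₀, rfl⟩, ⟨v₀, rfl⟩, mul_mem ⟨u₀, rfl⟩ ⟨v₀, rfl⟩]
  have := h.conj_range' (inv_mem c.2) y
  rw [hy] at this
  simpa [mul_assoc] using this

/-- The centraliser of t has no nontrivial normal subgroup of odd order. -/
theorem Hyp.odd_normal_eq_bot (h : Hyp P t E f u₀ v₀ τ₀) {A : Subgroup G} (hA : A ≤ centralizer ({t} : Set G))
    (hodd : Odd (Nat.card A)) (hn : ∀ c ∈ centralizer ({t} : Set G), ∀ a ∈ A, c * a * c⁻¹ ∈ A) : A = ⊥ := by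
  have hK : A.comap f = ⊥ := by
    have : (A.comap f).Normal := ⟨fun x hx y => by
      show f (y * x * y⁻¹) ∈ A
      rw [map_mul, map_mul, map_inv]
      exact hn _ (h.range_mem y) _ hx⟩
    refine eq_bot_of_normal_odd h.odd _ (hodd.of_dvd_nat ?_)
    rw [← card_map_of_injective h.inj]
    exact card_dvd_of_le (map_comap_le _ _)
  rw [eq_bot_iff]
  intro a ha
  obtain ⟨b, hb, e, he, rfl⟩ := h.dec a (hA ha)
  have he1 : e = 1 := by
    refine h.faithful e he fun x => ?_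
    obtain ⟨y, hy⟩ := h.conj_range e he x
    have hbx : b * f x = f x * b := by
      rcases hb with rfl | rfl
      · simp
      · exact h.t_comm x
    have hby : b * f y = f y * b := by
      rcases hb with rfl | rfl
      · simp
      · exact h.t_comm y
    have hmem : f (y * x⁻¹) ∈ A := by
      have e1 : b * e * f x * (b * e)⁻¹ = f y := by
        calc b * e * f x * (b * e)⁻¹ = b * (e * f x * e⁻¹) * b⁻¹ := by group
          _ = f y := by rw [← hy, hby, mul_inv_cancel_right]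
      have e2 : f (y * x⁻¹) = (b * e) * (f x * (b * e)⁻¹ * (f x)⁻¹) := by
        rw [map_mul, map_inv, ← e1]; group
      rw [e2]
      exact mul_mem ha (hn _ (h.range_mem x) _ (inv_mem ha))
    have hyx : y * x⁻¹ ∈ A.comap f := hmem
    rw [hK, mem_bot, mul_inv_eq_one] at hyx
    rw [hyx] at hy
    exact mul_inv_eq_iff_eq_mul.1 hy.symm
  subst he1
  rcases hb with rfl | rfl
  · simp
  · exfalso
    have h2 := orderOf_dvd_natCard (G := A) ⟨b * 1, ha⟩
    rw [Subgroup.orderOf_mk, mul_one, h.ord] at h2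
    rw [Nat.odd_iff] at hodd
    omega

/-- A subgroup of the normaliser of P containing the element of order three and moving t is
transitive on the involutions of P. -/
theorem Hyp.transitive (h : Hyp P t E f u₀ v₀ τ₀) {K : Subgroup G} (hK : K ≤ normalizer ((P : Subgroup G) : Set G))
    (hτK : f τ₀ ∈ K) (hPK : (P : Subgroup G) ≤ K) {k : G} (hk : k ∈ K) (hkt : k * t * k⁻¹ ≠ t)
    {x : G} (hx : x ∈ (P : Subgroup G)) (hx1 : x ≠ 1) : ∃ n ∈ K, n * t * n⁻¹ = x := by
  classical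
  set C := centralizer ({t} : Set G) with hC
  set τ := f τ₀ with hτ
  set u := f u₀ with hu
  set v := f v₀ with hv
  obtain ⟨hτt, hτu, hτv, hτuv⟩ := h.tau_conj
  obtain ⟨hu1, hv1, huv, huv1⟩ := h.fu_ne
  let O : Set G := {x | ∃ n ∈ K, n * t * n⁻¹ = x}
  show x ∈ O
  have htO : t ∈ O := ⟨1, one_mem _, by simp⟩
  have hOτ : ∀ y ∈ O, τ * y * τ⁻¹ ∈ O := by
    rintro y ⟨n, hn, rfl⟩
    exact ⟨τ * n, mul_mem hτK hn, by group⟩
  have hOP : ∀ y ∈ O, y ∈ (P : Subgroup G) := by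
    rintro y ⟨n, hn, rfl⟩
    exact (mem_normalizer_iff.1 (hK hn) t).1 h.mem
  have hO1 : ∀ y ∈ O, y ≠ 1 := by
    rintro y ⟨n, -, rfl⟩ e
    exact h.t_ne_one (conj_eq_one_iff.1 e)
  have hOodd : Odd (Nat.card O) := by
    have hcardO : Nat.card O = C.relIndex K := by
      rw [Subgroup.relIndex, Subgroup.index]
      refine (Nat.card_congr (Equiv.ofBijective
        (Quotient.lift (fun n : K => (⟨(n : G) * t * (n : G)⁻¹, n, n.2, rfl⟩ : O)) ?_) ⟨?_, ?_⟩)).symm
      · intro a b hab'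
        have h1 := QuotientGroup.leftRel_apply.1 hab'
        rw [mem_subgroupOf] at h1
        have h' := mem_centralizer_singleton_iff.1 h1
        refine Subtype.ext ?_
        show (a : G) * t * (a : G)⁻¹ = (b : G) * t * (b : G)⁻¹
        calc (a : G) * t * (a : G)⁻¹ = (a : G) * (t * ((a⁻¹ * b : K) : G)) * (b : G)⁻¹ := by simp [mul_assoc]
          _ = _ := by rw [← h']; simp [mul_assoc]
      · intro a b hab'
        induction a using Quotient.inductionOn with | _ a => ?_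
        induction b using Quotient.inductionOn with | _ b => ?_
        refine Quotient.sound (QuotientGroup.leftRel_apply.2 (mem_subgroupOf.2 (mem_centralizer_singleton_iff.2 ?_)))
        have h1 : (a : G) * t * (a : G)⁻¹ = (b : G) * t * (b : G)⁻¹ := congrArg Subtype.val hab'
        calc ((a⁻¹ * b : K) : G) * t = (a : G)⁻¹ * ((b : G) * t * (b : G)⁻¹) * (b : G) := by simp [mul_assoc]
          _ = t * ((a⁻¹ * b : K) : G) := by rw [← h1]; simp [mul_assoc]
      · rintro ⟨y, n, hn, rfl⟩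
        exact ⟨Quotient.mk _ ⟨n, hn⟩, rfl⟩
    rw [hcardO]
    have h1 := relIndex_mul_relIndex ((P : Subgroup G) ⊓ K) (C ⊓ K) K (inf_le_inf_right _ h.sylow_le) inf_le_right
    rw [inf_relIndex_right, inf_relIndex_right] at h1
    have hd : C.relIndex K ∣ (P : Subgroup G).index :=
      (Dvd.intro_left _ h1).trans (relIndex_dvd_index_of_le hPK)
    rw [← Nat.not_even_iff_odd, even_iff_two_dvd]
    exact fun e => P.not_dvd_index (e.trans hd)
  have hcyc : ∀ a, τ * a * τ⁻¹ = a → ((a * u ∈ O ↔ a * v ∈ O) ∧ (a * v ∈ O ↔ a * (u * v) ∈ O)) := by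
    intro a ha
    have e : ∀ w, τ * (a * w) * τ⁻¹ = a * (τ * w * τ⁻¹) := fun w => by
      calc τ * (a * w) * τ⁻¹ = (τ * a * τ⁻¹) * (τ * w * τ⁻¹) := by group
        _ = _ := by rw [ha]
    have s1 : a * u ∈ O → a * v ∈ O := fun h' => by have := hOτ _ h'; rwa [e, hτu] at this
    have s2 : a * v ∈ O → a * (u * v) ∈ O := fun h' => by have := hOτ _ h'; rwa [e, hτv] at this
    have s3 : a * (u * v) ∈ O → a * u ∈ O := fun h' => by have := hOτ _ h'; rwa [e, hτuv] at this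
    exact ⟨⟨s1, fun h' => s3 (s2 h')⟩, ⟨s2, fun h' => s1 (s3 h')⟩⟩
  have hfix : ∀ a, (a = 1 ∨ a = t) → τ * a * τ⁻¹ = a := by
    rintro a (rfl | rfl)
    · simp
    · exact hτt
  -- both three-orbits lie in O
  have hall : ∀ a, (a = 1 ∨ a = t) → a * u ∈ O := by
    by_contra hcon
    push Not at hcon
    obtain ⟨b, hb, hbu⟩ := hcon
    obtain ⟨a, ha, hab, hau⟩ : ∃ a, (a = 1 ∨ a = t) ∧ a ≠ b ∧ a * u ∈ O := by
      obtain ⟨c, hc, w, hw, hy⟩ := h.elems (hOP _ ⟨k, hk, rfl⟩)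
      have hyO : c * w ∈ O := ⟨k, hk, hy⟩
      have hcu : c * u ∈ O := by
        rcases hw with rfl | rfl | rfl | rfl
        · rcases hc with rfl | rfl
          · exact absurd (one_mul 1) (hO1 _ hyO)
          · exact absurd (hy.trans (mul_one _)) hkt
        · exact hyO
        · exact (hcyc c (hfix c hc)).1.2 hyO
        · exact (hcyc c (hfix c hc)).1.2 ((hcyc c (hfix c hc)).2.2 hyO)
      exact ⟨c, hc, fun e => hbu (e ▸ hcu), hcu⟩
    have hca := hcyc a (hfix a ha)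
    have hcb := hcyc b (hfix b hb)
    have hO : O = {t, a * u, a * v, a * (u * v)} := by
      ext y
      constructor
      · intro hy
        obtain ⟨c, hc, w, hw, rfl⟩ := h.elems (hOP y hy)
        have hcab : c = a ∨ c = b := by
          rcases ha with rfl | rfl <;> rcases hb with rfl | rfl <;> rcases hc with rfl | rfl <;>
            first | exact Or.inl rfl | exact Or.inr rfl | exact absurd rfl hab
        rcases hw with rfl | rfl | rfl | rfl
        · rcases hc with rfl | rfl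
          · exact absurd (one_mul 1) (hO1 _ hy)
          · exact Or.inl (mul_one _)
        · rcases hcab with rfl | rfl
          · simp [hu, hv]
          · exact absurd hy hbu
        · rcases hcab with rfl | rfl
          · simp [hu, hv]
          · exact absurd (hcb.1.2 hy) hbu
        · rcases hcab with rfl | rfl
          · simp [hu, hv]
          · exact absurd (hcb.1.2 (hcb.2.2 hy)) hbu
      · rintro (rfl | rfl | rfl | rfl)
        exacts [htO, hau, hca.1.1 hau, hca.2.1 (hca.1.1 hau)]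
    have haE : ∀ w ∈ E, w ≠ 1 → t ≠ a * w := by
      intro w hw hw1 e
      rcases ha with rfl | rfl
      · exact h.t_not_mem (by rw [e, one_mul]; exact hw)
      · exact hw1 (left_eq_mul.1 e)
    have hcard : Nat.card O = 4 := by
      rw [hO, Nat.card_coe_set_eq, Set.ncard_insert_of_notMem, Set.ncard_insert_of_notMem,
        Set.ncard_insert_of_notMem, Set.ncard_singleton]
      · simp [hu, hv, mul_right_inj, hu1]
      · simp [hu, hv, mul_right_inj, huv, hv1]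
      · simp only [Set.mem_insert_iff, Set.mem_singleton_iff, not_or]
        exact ⟨haE u (h.range_le _) hu1, haE v (h.range_le _) hv1,
          haE _ (mul_mem (h.range_le _) (h.range_le _)) huv1⟩
    rw [hcard] at hOodd
    exact (Nat.not_odd_iff_even.2 ⟨2, rfl⟩) hOodd
  obtain ⟨c, hc, w, hw, rfl⟩ := h.elems hx
  have hcu := hall c hc
  have hcc := hcyc c (hfix c hc)
  rcases hw with rfl | rfl | rfl | rfl
  · rcases hc with rfl | rfl
    · exact absurd (one_mul 1) hx1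
    · rwa [mul_one]
  exacts [hcu, hcc.1.1 hcu, hcc.2.1 (hcc.1.1 hcu)]

end Cfsg.Agent.H91.JRMax
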